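import Mathlib

/-!
# Local equations at a point whose local ring is Noetherian of dimension `≤ 1` (algebra)
-/

set_option autoImplicit false
universe u

namespace Groth.Agent.H5.Ext

variable {R : Type u} [CommRing R] (m : Ideal R) [m.IsPrime]
  (A : Type u) [CommRing A] [Algebra R A] [IsLocalization.AtPrime A m]

include m in
/-- If `V(t)` is contained in the closed point of `Spec R_m` and `g ∈ m`, then `h g^N ∈ (t)` for
some `h ∉ m`. -/
lemma exists_mul_pow_mem_span (t g : R) (hg : g ∈ m)
    (ht : ∀ q : Ideal A, q.IsPrime → algebraMap R A t ∈ q → algebraMap R A g ∈ q) :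
    ∃ h : R, h ∉ m ∧ ∃ N : ℕ, h * g ^ N ∈ Ideal.span {t} := by
  have hrad : algebraMap R A g ∈ (Ideal.span {algebraMap R A t}).radical := by
    rw [Ideal.radical_eq_sInf, Ideal.mem_sInf]
    rintro q ⟨hq1, hq2⟩
    exact ht q hq2 (hq1 (Ideal.subset_span rfl))
  obtain ⟨N, hN⟩ := hrad
  obtain ⟨a, ha⟩ := Ideal.mem_span_singleton'.mp hN
  obtain ⟨⟨a₀, s⟩, has⟩ := IsLocalization.surj m.primeCompl a
  have h1 : algebraMap R A (s * g ^ N) = algebraMap R A (a₀ * t) := by
    rw [map_mul, map_mul, map_pow, ← ha, ← has]; ring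
  obtain ⟨u, hu⟩ := (IsLocalization.eq_iff_exists m.primeCompl A).mp h1
  refine ⟨u * s, ?_, N, ?_⟩
  · exact fun h => (Ideal.IsPrime.mem_or_mem inferInstance h).elim u.2 s.2
  · rw [Ideal.mem_span_singleton']
    exact ⟨u * a₀, by rw [mul_assoc, mul_assoc, ← hu]⟩

include m in
lemma exists_mul_pow_mem_span_finset {ι : Type*} (s : Finset ι) (t : R) (g : ι → R)
    (hg : ∀ i ∈ s, g i ∈ m)
    (ht : ∀ q : Ideal A, q.IsPrime → algebraMap R A t ∈ q → ∀ i ∈ s, algebraMap R A (g i) ∈ q) :
    ∃ h : R, h ∉ m ∧ ∃ N : ℕ, ∀ i ∈ s, h * g i ^ N ∈ Ideal.span {t} := by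
  classical
  induction s using Finset.induction_on with
  | empty => exact ⟨1, fun h => (inferInstance : m.IsPrime).ne_top ((Ideal.eq_top_iff_one _).mpr h), 0, by simp⟩
  | insert i s his ih =>
    obtain ⟨h, hh, N, hN⟩ := ih (fun j hj => hg j (Finset.mem_insert_of_mem hj))
      (fun q hq htq j hj => ht q hq htq j (Finset.mem_insert_of_mem hj))
    obtain ⟨h', hh', N', hN'⟩ := exists_mul_pow_mem_span m A t (g i)
      (hg i (Finset.mem_insert_self i s))
      (fun q hq htq => ht q hq htq i (Finset.mem_insert_self i s))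
    refine ⟨h * h', fun hm => (Ideal.IsPrime.mem_or_mem inferInstance hm).elim hh hh',
      N + N', fun j hj => ?_⟩
    rcases Finset.mem_insert.mp hj with rfl | hj
    · have : h * h' * g j ^ (N + N') = (h * g j ^ N) * (h' * g j ^ N') := by ring
      rw [this]
      exact Ideal.mul_mem_left _ _ hN'
    · have : h * h' * g j ^ (N + N') = (h' * g j ^ N') * (h * g j ^ N) := by ring
      rw [this]
      exact Ideal.mul_mem_left _ _ (hN j hj)

include m in
/-- If `R_m` is Noetherian of dimension `≤ 1` there is `f ∈ m` with `V(f) ∩ Spec R_m` the closed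
point. -/
lemma exists_local_parameter [IsNoetherianRing A] (hd : ringKrullDim A ≤ 1) :
    ∃ f : R, f ∈ m ∧ ∀ q : Ideal A, q.IsPrime → algebraMap R A f ∈ q →
      ∀ g ∈ m, algebraMap R A g ∈ q := by
  classical
  haveI : IsLocalRing A := IsLocalization.AtPrime.isLocalRing A m
  haveI : Ring.KrullDimLE 1 A := (Ring.krullDimLE_iff).mpr hd
  have hfin : (minimalPrimes A).Finite := minimalPrimes.finite_of_isNoetherianRing A
  let S : Finset (Ideal A) := hfin.toFinset.filter (fun p => p ≠ IsLocalRing.maximalIdeal A)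
  have hS : ∀ p ∈ S, p.IsPrime := by
    intro p hp
    have := (Finset.mem_filter.mp hp).1
    exact (hfin.mem_toFinset.mp this).1.1
  have havoid : ¬ ((IsLocalRing.maximalIdeal A : Set A) ⊆ ⋃ p ∈ (S : Set (Ideal A)), (p : Set A)) := by
    intro hsub
    rw [Ideal.subset_union_prime (R := A) (s := S) (f := fun p => p) ⊥ ⊥
      (fun p hp _ _ => hS p hp)] at hsub
    obtain ⟨p, hp, hle⟩ := hsub
    have hpne := (Finset.mem_filter.mp hp).2
    have hpp := hS p hp
    exact hpne ((IsLocalRing.maximalIdeal.isMaximal A).eq_of_le hpp.ne_top hle).symm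
  obtain ⟨f₀, hf₀m, hf₀⟩ := Set.not_subset.mp havoid
  have hf₀' : ∀ q : Ideal A, q.IsPrime → f₀ ∈ q → q = IsLocalRing.maximalIdeal A := by
    intro q hq hfq
    rcases (Ring.krullDimLE_one_iff.mp inferInstance) q hq with hmin | hmax
    · by_contra hne
      apply hf₀
      have hqS : q ∈ S := Finset.mem_filter.mpr ⟨hfin.mem_toFinset.mpr hmin, hne⟩
      exact Set.mem_iUnion₂.mpr ⟨q, hqS, hfq⟩
    · exact IsLocalRing.eq_maximalIdeal hmax
  obtain ⟨⟨f₁, s⟩, hfs⟩ := IsLocalization.surj m.primeCompl f₀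
  have hsu : IsUnit (algebraMap R A s) := IsLocalization.map_units A s
  refine ⟨f₁, ?_, ?_⟩
  · rw [← IsLocalization.AtPrime.to_map_mem_maximal_iff A m f₁, ← hfs]
    exact Ideal.mul_mem_right _ _ hf₀m
  · intro q hq hfq g hg
    have : f₀ ∈ q := by
      rw [← hfs] at hfq
      rcases hq.mem_or_mem hfq with h | h
      · exact h
      · exact absurd (q.eq_top_of_isUnit_mem h hsu) hq.ne_top
    rw [hf₀' q hq this]
    exact (IsLocalization.AtPrime.to_map_mem_maximal_iff A m g).mpr hg

/-- variant of `exists_mul_pow_mem_span` with the hypothesis on primes of `R` contained in `m`. -/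
lemma exists_mul_pow_mem_span' {R : Type u} [CommRing R] (m : Ideal R) [m.IsPrime]
    (A : Type u) [CommRing A] [Algebra R A] [IsLocalization.AtPrime A m] (t g : R) (hg : g ∈ m)
    (ht : ∀ p : Ideal R, p.IsPrime → p ≤ m → t ∈ p → g ∈ p) :
    ∃ h : R, h ∉ m ∧ ∃ N : ℕ, h * g ^ N ∈ Ideal.span {t} := by
  haveI : IsLocalRing A := IsLocalization.AtPrime.isLocalRing A m
  apply exists_mul_pow_mem_span m A t g hg
  intro q hq htq
  have hp : (q.comap (algebraMap R A)).IsPrime := Ideal.comap_isPrime _ q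
  have hle : q.comap (algebraMap R A) ≤ m := by
    intro x hx
    rw [← IsLocalization.AtPrime.to_map_mem_maximal_iff A m x]
    exact IsLocalRing.le_maximalIdeal hq.ne_top hx
  exact ht _ hp hle htq

include m in
/-- if `R_m` is Noetherian of dimension `≤ 1`, only finitely many primes of `R` are contained in
`m`. -/
lemma finite_primes_le [IsNoetherianRing A] (hd : ringKrullDim A ≤ 1) :
    {p : PrimeSpectrum R | p.asIdeal ≤ m}.Finite := by
  classical
  haveI : IsLocalRing A := IsLocalization.AtPrime.isLocalRing A m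
  haveI : Ring.KrullDimLE 1 A := (Ring.krullDimLE_iff).mpr hd
  have hfin : (minimalPrimes A).Finite := minimalPrimes.finite_of_isNoetherianRing A
  have hA : (Set.univ : Set (PrimeSpectrum A)).Finite := by
    apply Set.Finite.of_finite_image (f := PrimeSpectrum.asIdeal)
    · apply (hfin.union (Set.finite_singleton (IsLocalRing.maximalIdeal A))).subset
      rintro _ ⟨q, -, rfl⟩
      rcases (Ring.krullDimLE_one_iff.mp inferInstance) q.asIdeal q.isPrime with hmin | hmax
      · exact Or.inl hmin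
      · exact Or.inr (IsLocalRing.eq_maximalIdeal hmax)
    · intro p _ q _ h
      exact PrimeSpectrum.ext h
  haveI : Finite (PrimeSpectrum A) := Set.finite_univ_iff.mp hA
  haveI : Finite (Set.Iic (⟨m, inferInstance⟩ : PrimeSpectrum R)) :=
    Finite.of_equiv _ (IsLocalization.AtPrime.primeSpectrumOrderIso A m).toEquiv
  exact Set.toFinite (Set.Iic (⟨m, inferInstance⟩ : PrimeSpectrum R))

end Groth.Agent.H5.Ext
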