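import Mathlib
import Groth.Agent.H4.PicDim1
import Groth.Agent.Lib.Helper5.Ext.A
import Groth.Agent.Lib.Helper5.Glue.A

/-!
# A local equation of an isolated point of the complement of a retrocompact open
-/

set_option autoImplicit false
universe u
open CategoryTheory CategoryTheory.Limits AlgebraicGeometry TopologicalSpace Opposite

namespace Groth.Agent.H5.Ext

open Groth.Agent.H5.Glue Groth.Agent.H4

variable {X : Scheme.{u}}

lemma isCompact_inf_of_quasiCompact (U : X.Opens) [QuasiCompact U.ι] {V : X.Opens}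
    (hV : IsAffineOpen V) : IsCompact ((V ⊓ U : X.Opens) : Set X) := by
  have h1 : IsCompact (U.ι ⁻¹' (V : Set X)) :=
    QuasiCompact.isCompact_preimage (f := U.ι) _ V.2 hV.isCompact
  have h2 := h1.image U.ι.continuous
  have h3 : U.ι '' (U.ι ⁻¹' (V : Set X)) = ((V ⊓ U : X.Opens) : Set X) := by
    rw [Set.image_preimage_eq_inter_range]
    have : Set.range U.ι = (U : Set X) := by
      simpa using congrArg (fun O : X.Opens => (O : Set X)) U.opensRange_ι
    rw [this]; rfl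
  rwa [h3] at h2

/-- Around a closed point `z` outside the retrocompact open `U`, isolated in `Uᶜ` and with
Noetherian local ring of dimension `≤ 1`, there are an affine open `V` and an equation `f` on `V`
with `D(f) = V ∩ U = V ∖ {z}`. -/
theorem exists_local_equation (U : X.Opens) [QuasiCompact U.ι] (z : X) (hz : z ∉ U)
    (hcl : IsClosed ({z} : Set X))
    (hiso : ∃ O : X.Opens, z ∈ O ∧ ∀ y ∈ O, y ∉ U → y = z)
    (hN : IsNoetherianRing (X.presheaf.stalk z)) (hd : ringKrullDim (X.presheaf.stalk z) ≤ 1) :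
    ∃ (V : X.Opens) (_ : IsAffineOpen V) (_ : z ∈ V) (f : Γ(X, V)),
      X.basicOpen f = V ⊓ U ∧ ∀ y ∈ V, y ∉ U → y = z := by
  classical
  obtain ⟨O, hzO, hO⟩ := hiso
  obtain ⟨_, ⟨V₀, hV₀, rfl⟩, hzV₀, hV₀O⟩ :=
    X.isBasis_affineOpens.exists_subset_of_mem_open hzO O.2
  have hV₀O' : V₀ ≤ O := hV₀O
  set m := (hV₀.primeIdealOf ⟨z, hzV₀⟩).asIdeal with hm
  letI := (X.presheaf.germ V₀ z hzV₀).hom.toAlgebra
  haveI : IsLocalization.AtPrime (X.presheaf.stalk z) m := hV₀.isLocalization_stalk ⟨z, hzV₀⟩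
  -- the finite cover of `V₀ ⊓ U`
  have hcomp := isCompact_inf_of_quasiCompact U hV₀
  have hcov : ((V₀ ⊓ U : X.Opens) : Set X) ⊆
      ⋃ g ∈ {g : Γ(X, V₀) | g ∈ m}, (X.basicOpen g : Set X) := by
    intro y hy
    have hyz : y ≠ z := by rintro rfl; exact hz hy.2
    let W : X.Opens := V₀ ⊓ ⟨{z}ᶜ, hcl.isOpen_compl⟩
    have hyW : y ∈ W := ⟨hy.1, hyz⟩
    obtain ⟨g, hgW, hyg⟩ := hV₀.exists_basicOpen_le (V := W) ⟨y, hyW⟩ hy.1
    refine Set.mem_iUnion₂.mpr ⟨g, ?_, hyg⟩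
    by_contra hgm
    have : z ∈ X.basicOpen g := (PicDim1.mem_basicOpen_iff hV₀ g z hzV₀).mpr hgm
    exact (hgW this).2 rfl
  obtain ⟨t, htm, htfin, htcov⟩ := hcomp.elim_finite_subcover_image
    (fun g _ => (X.basicOpen g).2) hcov
  -- the equation
  obtain ⟨f₁, hf₁m, hf₁⟩ := exists_local_parameter m (X.presheaf.stalk z) hd
  obtain ⟨h, hhm, N, hN⟩ := exists_mul_pow_mem_span_finset m (X.presheaf.stalk z)
    htfin.toFinset f₁ (fun g => g) (fun g hg => htm (htfin.mem_toFinset.mp hg))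
    (fun q hq hfq g hg => hf₁ q hq hfq g (htm (htfin.mem_toFinset.mp hg)))
  have hle : X.basicOpen h ≤ V₀ := X.basicOpen_le h
  have hzh : z ∈ X.basicOpen h := (PicDim1.mem_basicOpen_iff hV₀ h z hzV₀).mpr hhm
  refine ⟨X.basicOpen h, hV₀.basicOpen h, hzh, res hle f₁, ?_, ?_⟩
  · have h1 : X.basicOpen (res hle f₁) = X.basicOpen h ⊓ X.basicOpen f₁ :=
      Scheme.basicOpen_res _ _ _
    rw [h1]
    ext y
    simp only [Opens.coe_inf, Set.mem_inter_iff, SetLike.mem_coe]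
    refine and_congr_right fun hy => ?_
    have hyV₀ : y ∈ V₀ := hle hy
    constructor
    · intro hyf
      by_contra hyU
      have hyz : y = z := hO y (hV₀O' hyV₀) hyU
      subst hyz
      exact (PicDim1.mem_basicOpen_iff hV₀ f₁ y hyV₀).mp hyf hf₁m
    · intro hyU
      obtain ⟨g, hgt, hyg⟩ := Set.mem_iUnion₂.mp (htcov ⟨hyV₀, hyU⟩)
      rw [PicDim1.mem_basicOpen_iff hV₀ f₁ y hyV₀]
      intro hf₁y
      have h2 := hN g (htfin.mem_toFinset.mpr hgt)
      obtain ⟨a, ha⟩ := Ideal.mem_span_singleton'.mp h2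
      have h3 : h * g ^ N ∈ (hV₀.primeIdealOf ⟨y, hyV₀⟩).asIdeal := by
        rw [← ha]; exact Ideal.mul_mem_left _ _ hf₁y
      rcases (hV₀.primeIdealOf ⟨y, hyV₀⟩).isPrime.mem_or_mem h3 with h4 | h4
      · exact (PicDim1.mem_basicOpen_iff hV₀ h y hyV₀).mp hy h4
      · exact (PicDim1.mem_basicOpen_iff hV₀ g y hyV₀).mp hyg
          ((hV₀.primeIdealOf ⟨y, hyV₀⟩).isPrime.mem_of_pow_mem N h4)
  · intro y hy hyU
    exact hO y (hV₀O' (hle hy)) hyU

end Groth.Agent.H5.Ext
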