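import Mathlib
import Groth.Agent.Lib.Helper5.Ext.B
import Groth.Agent.Lib.Helper5.Glue.F
import Groth.Agent.Lib.Lead.QC.AmpleBasis

/-!
# The invertible module and section attached to local equations
-/

set_option autoImplicit false
universe u
open CategoryTheory CategoryTheory.Limits AlgebraicGeometry TopologicalSpace Opposite

namespace Groth.Agent.H5.Ext

open Groth.Agent.LD Groth.Agent.LD.QC Groth.Agent.H5.Glue

variable {X : Scheme.{u}} {ι : Type u} (W : ι → X.Opens) (c : ∀ i, Γ(X, W i))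

section cocycle
variable (hc : ∀ i j, i ≠ j → W i ⊓ W j ≤ X.basicOpen (c i))

/-- the cocycle `c j / c i` (and `1` on the diagonal). -/
noncomputable def ηc (hc : ∀ i j, i ≠ j → W i ⊓ W j ≤ X.basicOpen (c i)) (i j : ι) :
    Γ(X, W i ⊓ W j) := by
  classical
  exact if h : i = j then 1 else
    res (inf_le_right : W i ⊓ W j ≤ W j) (c j) *
      ((isUnit_res_of_le_basicOpen (c i) (inf_le_left : W i ⊓ W j ≤ W i) (hc i j h)).unit⁻¹ :
        (Γ(X, W i ⊓ W j))ˣ)

lemma ηc_self (i : ι) : ηc W c hc i i = 1 := by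
  unfold ηc; rw [dif_pos rfl]

lemma mul_ηc (i j : ι) :
    res (inf_le_left : W i ⊓ W j ≤ W i) (c i) * ηc W c hc i j =
      res (inf_le_right : W i ⊓ W j ≤ W j) (c j) := by
  classical
  by_cases h : i = j
  · subst h
    rw [ηc_self, mul_one]
  · unfold ηc
    rw [dif_neg h, mul_comm, mul_assoc]
    have := (isUnit_res_of_le_basicOpen (c i) (inf_le_left : W i ⊓ W j ≤ W i) (hc i j h)).val_inv_mul
    change _ * ((↑(isUnit_res_of_le_basicOpen (c i) (inf_le_left : W i ⊓ W j ≤ W i)
      (hc i j h)).unit⁻¹ : Γ(X, W i ⊓ W j)) * res (inf_le_left : W i ⊓ W j ≤ W i) (c i)) = _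
    rw [this, mul_one]

theorem isCocycle_ηc : IsCocycle W (ηc W c hc) := by
  classical
  intro i j k
  by_cases hijk : i = j ∧ i = k
  · obtain ⟨rfl, rfl⟩ := hijk
    simp only [ηc_self, map_one, mul_one]
  · set T := W i ⊓ W j ⊓ W k with hT
    have hTi : T ≤ W i := inf_le_left.trans inf_le_left
    have hTj : T ≤ W j := inf_le_left.trans inf_le_right
    have hTk : T ≤ W k := inf_le_right
    have hu : IsUnit (res hTi (c i)) := by
      apply isUnit_res_of_le_basicOpen (c i) hTi
      by_cases hij : i = j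
      · have hik : i ≠ k := fun h => hijk ⟨hij, h⟩
        exact (le_inf hTi hTk).trans (hc i k hik)
      · exact (le_inf hTi hTj).trans (hc i j hij)
    apply hu.mul_left_cancel
    have e1 := congrArg (res (inf_le_inf_right (W k) inf_le_left : T ≤ W i ⊓ W k)) (mul_ηc W c hc i k)
    have e2 := congrArg (res (inf_le_left : T ≤ W i ⊓ W j)) (mul_ηc W c hc i j)
    have e3 := congrArg (res (inf_le_inf_right (W k) inf_le_right : T ≤ W j ⊓ W k))
      (mul_ηc W c hc j k)
    rw [map_mul, Glue.res_res, Glue.res_res] at e1 e2 e3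
    rw [e1, ← mul_assoc, e2, e3]

end cocycle

/-- **The invertible module with a section cut out by local equations `c i` on `W i`**, provided
`c i` is invertible on `W i ∩ W j` for `j ≠ i`. -/
theorem exists_invertible_of_equations (hW : iSup W = ⊤)
    (hc : ∀ i j, i ≠ j → W i ⊓ W j ≤ X.basicOpen (c i)) :
    ∃ (L : X.Modules) (s : unitMod X ⟶ L), PicF.IsInvertible L ∧
      ∀ i, CohB1.genLocus L s ⊓ W i = X.basicOpen (c i) := by
  have hcoc := isCocycle_ηc W c hc
  have hunit : ∀ i, IsUnit (ηc W c hc i i) := fun i => by rw [ηc_self]; exact isUnit_one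
  have hL := isInvertible_glueMod hcoc hunit hW
  have hcompat : ∀ i j, mres _ (inf_le_left : W i ⊓ W j ≤ W i) (c i • glueGen hcoc i) =
      mres _ (inf_le_right : W i ⊓ W j ≤ W j) (c j • glueGen hcoc j) := by
    intro i j
    rw [mres_smul, mres_smul]
    have h1 := glueGen_transition hcoc i j
    change mres _ _ (glueGen hcoc i) = _ • mres _ _ (glueGen hcoc j) at h1
    rw [h1, smul_smul, mul_ηc]
  obtain ⟨ts, hts, -⟩ := existsUnique_glue_sec _ W hW (fun i => c i • glueGen hcoc i) hcompat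
  refine ⟨_, homOfSection _ ts, hL, fun i => ?_⟩
  exact genLocus_inf_eq_basicOpen (homOfSection _ ts) (isBasisOver_glueGen hcoc hunit i) (c i)
    (by rw [val_homOfSection]; exact hts i)

/-- points of a closed discrete subset are closed and isolated. -/
lemma isClosed_and_isolated (U : X.Opens) (hdisc : DiscreteTopology ↥((U : Set X)ᶜ)) (z : X)
    (hz : z ∉ U) :
    IsClosed ({z} : Set X) ∧ ∃ O : X.Opens, z ∈ O ∧ ∀ y ∈ O, y ∉ U → y = z := by
  have hUc : IsClosed ((U : Set X)ᶜ) := U.2.isClosed_compl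
  let z' : ↥((U : Set X)ᶜ) := ⟨z, hz⟩
  constructor
  · have h1 : IsClosed ({z'} : Set ↥((U : Set X)ᶜ)) := isClosed_discrete _
    have h2 := hUc.isClosedEmbedding_subtypeVal.isClosedMap _ h1
    simpa [z'] using h2
  · have h1 : IsOpen ({z'} : Set ↥((U : Set X)ᶜ)) := isOpen_discrete _
    obtain ⟨O, hO, hOz⟩ := isOpen_induced_iff.mp h1
    refine ⟨⟨O, hO⟩, ?_, ?_⟩
    · have : z' ∈ Subtype.val ⁻¹' O := by rw [hOz]; rfl
      exact this
    · intro y hy hyU
      have : (⟨y, hyU⟩ : ↥((U : Set X)ᶜ)) ∈ Subtype.val ⁻¹' O := hy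
      rw [hOz] at this
      exact congrArg Subtype.val this

/-- **Part (1)**: a retrocompact open whose complement is discrete with Noetherian local rings of
dimension `≤ 1` is the non-vanishing locus of a section of an invertible module. -/
theorem exists_invertible_genLocus_eq (U : X.Opens) [QuasiCompact U.ι]
    (hdisc : DiscreteTopology ↥((U : Set X)ᶜ))
    (hloc : ∀ x : X, x ∉ U → IsNoetherianRing (X.presheaf.stalk x) ∧
      ringKrullDim (X.presheaf.stalk x) ≤ 1) :
    ∃ (L : X.Modules) (s : unitMod X ⟶ L), PicF.IsInvertible L ∧ CohB1.genLocus L s = U := by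
  classical
  have hdata : ∀ x : X, ∃ (W : X.Opens) (c : Γ(X, W)), x ∈ W ∧ X.basicOpen c = W ⊓ U ∧
      ∀ y ∈ W, y ∉ U → y = x := by
    intro x
    by_cases hx : x ∈ U
    · refine ⟨U, 1, hx, ?_, fun y hy hy' => absurd hy hy'⟩
      rw [X.basicOpen_of_isUnit isUnit_one, inf_idem]
    · obtain ⟨hcl, hiso⟩ := isClosed_and_isolated U hdisc x hx
      obtain ⟨V, -, hxV, f, hf, hV⟩ := exists_local_equation U x hx hcl hiso (hloc x hx).1
        (hloc x hx).2
      exact ⟨V, f, hxV, hf, hV⟩
  choose W c hxW hc hW using hdata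
  have hWtop : iSup W = ⊤ := by
    rw [eq_top_iff]
    intro x _
    exact Opens.mem_iSup.mpr ⟨x, hxW x⟩
  have hcc : ∀ i j, i ≠ j → W i ⊓ W j ≤ X.basicOpen (c i) := by
    intro i j hij y hy
    rw [hc i]
    refine ⟨hy.1, ?_⟩
    by_contra hyU
    exact hij ((hW i y hy.1 hyU).symm.trans (hW j y hy.2 hyU))
  obtain ⟨L, s, hL, hs⟩ := exists_invertible_of_equations W c hWtop hcc
  refine ⟨L, s, hL, ?_⟩
  ext y
  have h1 : y ∈ CohB1.genLocus L s ⊓ W y ↔ y ∈ W y ⊓ U := by rw [hs y, hc y]
  constructor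
  · intro hy
    exact (h1.mp ⟨hy, hxW y⟩).2
  · intro hy
    exact (h1.mpr ⟨hxW y, hy⟩).1

end Groth.Agent.H5.Ext
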