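import Mathlib
import Groth.Agent.Lib.Helper5.FinSec.A
import Groth.Agent.Lib.Helper5.Glue.F
import Groth.Agent.Lib.Lead.QC.QAffAmple
import Groth.Agent.Lib.Lead.QC.TensorPow
import Groth.Agent.Lib.Lead.QC.RestrictOpen
import Groth.Agent.Lib.Lead.QC.LocalBase
import Groth.Agent.Lib.Lead.QC.SepAmple
import Groth.Agent.Lib.Helper5.Ext.B
import Groth.Agent.Lib.Helper5.Pole.D

/-!
# Trivialising an invertible module near finitely many points of an affine open
-/

set_option autoImplicit false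
universe u
open CategoryTheory CategoryTheory.Limits AlgebraicGeometry TopologicalSpace Opposite

namespace Groth.Agent.H5.Ext

open Groth.Agent.LD Groth.Agent.LD.QC Groth.Agent.H5.Glue Groth.Agent.H5.FinSec

/-- On an affine scheme, an invertible module is trivialised, on a basic open containing any given
finite set of points, by a global section. -/
theorem exists_section_basicOpen {Y : Scheme.{u}} [IsAffine Y] (E : Y.Modules)
    (hE : PicF.IsInvertible E) (Z : Finset Y) :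
    ∃ (σ : unitMod Y ⟶ E) (r : Γ(Y, ⊤)), (∀ z ∈ Z, z ∈ Y.basicOpen r) ∧
      Y.basicOpen r ≤ CohB1.genLocus E σ := by
  obtain ⟨E', hE', ⟨ε⟩⟩ := exists_inverse E hE
  obtain ⟨σ, hσ⟩ := exists_section_of_finite E hE Z
  obtain ⟨σ', hσ'⟩ := exists_section_of_finite E' hE' Z
  let φ : unitMod Y ⟶ unitMod Y := SecTwist.tmulHom σ σ' ≫ ε.hom
  have h1 : CohB1.genLocus (unitMod Y) φ = CohB1.genLocus E σ ⊓ CohB1.genLocus E' σ' := by
    rw [genLocus_comp_iso, genLocus_tmulHom hE hE']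
  have h2 : CohB1.genLocus (unitMod Y) φ = Y.basicOpen (sectionOfHom φ) := by
    conv_lhs => rw [← homOfSection_sectionOfHom φ]
    exact genLocus_homOfSection_unit _
  refine ⟨σ, sectionOfHom φ, fun z hz => ?_, ?_⟩
  · rw [← h2, h1]; exact ⟨hσ z hz, hσ' z hz⟩
  · rw [← h2, h1]; exact inf_le_left

/-- On an affine open `D` of a scheme, an invertible module has a basis over a basic open of `D`
containing any given finite subset of `D`. -/
theorem exists_basis_basicOpen {Y : Scheme.{u}} (E : Y.Modules) (hE : PicF.IsInvertible E)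
    {D : Y.Opens} (hD : IsAffineOpen D) (Z : Set Y) (hZ : Z.Finite) (hZD : Z ⊆ D) :
    ∃ (r : Γ(Y, D)) (e : Γ(E, Y.basicOpen r)), Z ⊆ Y.basicOpen r ∧
      IsBasisOver E (Y.basicOpen r) e := by
  classical
  haveI : IsAffine (D : Scheme.{u}) := hD
  have hED := isInvertible_restrict D.ι hE
  let Z₁ : Finset (D : Scheme.{u}) := hZ.toFinset.attach.image
    (fun z => (⟨z.1, hZD (hZ.mem_toFinset.mp z.2)⟩ : (D : Scheme.{u})))
  obtain ⟨σ, r₁, hr₁Z, hr₁⟩ := exists_section_basicOpen (E.restrict D.ι) hED Z₁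
  -- the function on `D`
  let r : Γ(Y, D) := D.topIso.hom r₁
  have hr : Y.basicOpen r = D.ι ''ᵁ ((D : Scheme.{u}).basicOpen r₁) := by
    have h1 : D.topIso.inv r = r₁ := by
      change D.topIso.inv (D.topIso.hom r₁) = r₁
      rw [← CommRingCat.comp_apply, Iso.hom_inv_id]; rfl
    rw [← h1, Scheme.Opens.ι_image_basicOpen_topIso_inv]
  have hb : IsBasisOver (E.restrict D.ι) ((D : Scheme.{u}).basicOpen r₁)
      (SecTwist.val σ ((D : Scheme.{u}).basicOpen r₁)) := isBasisOver_val_of_le σ hr₁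
  have hb' := (isBasisOver_restrict_iff D.ι E ((D : Scheme.{u}).basicOpen r₁) _).mp hb
  refine ⟨r, E.presheaf.map (eqToHom hr).op (SecTwist.val σ ((D : Scheme.{u}).basicOpen r₁)),
    ?_, ?_⟩
  · intro z hz
    rw [hr]
    refine ⟨⟨z, hZD hz⟩, hr₁Z _ ?_, rfl⟩
    exact Finset.mem_image.mpr ⟨⟨z, hZ.mem_toFinset.mpr hz⟩, Finset.mem_attach _ _, rfl⟩
  · have := hb'.mono (le_of_eq hr)
    exact this

open Groth.Agent.H4 Groth.Agent.H5.Pole in
/-- **Local triviality near a boundary point**: an invertible module on the open `U` is trivial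
on `D(h) ∩ U` for a suitable basic open neighbourhood `D(h)` of the boundary point `z`. -/
theorem exists_local_basis {X : Scheme.{u}} (U : X.Opens) (N : (U : Scheme.{u}).Modules)
    (hN : PicF.IsInvertible N) (z : X) (hz : z ∉ U) {V : X.Opens} (hV : IsAffineOpen V)
    (hzV : z ∈ V) (f : Γ(X, V)) (hf : X.basicOpen f = V ⊓ U)
    (hNoeth : IsNoetherianRing (X.presheaf.stalk z))
    (hd : ringKrullDim (X.presheaf.stalk z) ≤ 1) :
    ∃ h : Γ(X, V), z ∈ X.basicOpen h ∧ ∃ b : Γ(N, U.ι ⁻¹ᵁ X.basicOpen h),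
      IsBasisOver N (U.ι ⁻¹ᵁ X.basicOpen h) b := by
  classical
  set m := (hV.primeIdealOf ⟨z, hzV⟩).asIdeal with hm
  letI := (X.presheaf.germ V z hzV).hom.toAlgebra
  haveI : IsLocalization.AtPrime (X.presheaf.stalk z) m := hV.isLocalization_stalk ⟨z, hzV⟩
  have hfm : f ∈ m := by
    by_contra h
    have := (PicDim1.mem_basicOpen_iff hV f z hzV).mpr h
    rw [hf] at this
    exact hz this.2
  have hDaff : IsAffineOpen (X.basicOpen f) := hV.basicOpen f
  have hDU : X.basicOpen f ≤ U := by rw [hf]; exact inf_le_right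
  have hDV : X.basicOpen f ≤ V := X.basicOpen_le f
  have hD'img : U.ι ''ᵁ (U.ι ⁻¹ᵁ X.basicOpen f) = X.basicOpen f := by
    rw [Scheme.Hom.image_preimage_eq_opensRange_inf, Scheme.Opens.opensRange_ι]
    exact inf_eq_right.mpr hDU
  have hD'aff : IsAffineOpen (U.ι ⁻¹ᵁ X.basicOpen f) := by
    rw [← Scheme.Hom.isAffineOpen_iff_of_isOpenImmersion U.ι, hD'img]; exact hDaff
  -- the finite set of generisations
  have hPfin := finite_primes_le m (X.presheaf.stalk z) hd
  let Z : Set (U : Scheme.{u}) :=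
    Subtype.val ⁻¹' (hV.fromSpec '' {p | p.asIdeal ≤ m}) ∩ (U.ι ⁻¹ᵁ X.basicOpen f)
  have hZfin : Z.Finite :=
    ((hPfin.image _).preimage Subtype.val_injective.injOn).subset Set.inter_subset_left
  obtain ⟨r, e, hZr, he⟩ :=
    exists_basis_basicOpen N hN hD'aff Z hZfin Set.inter_subset_right
  -- the function `r` on `D(f)`
  let r' : Γ(X, U.ι ''ᵁ (U.ι ⁻¹ᵁ X.basicOpen f)) := r
  let ρ : Γ(X, X.basicOpen f) := Glue.res (le_of_eq hD'img.symm) r'
  have hmem : ∀ x : (U : Scheme.{u}), x ∈ (U : Scheme.{u}).basicOpen r ↔ x.1 ∈ X.basicOpen ρ := by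
    intro x
    have h0 : x ∈ (U : Scheme.{u}).basicOpen r ↔ x.1 ∈ X.basicOpen r' :=
      Scheme.Opens.mem_basicOpen_toScheme (U := U) (r := r) (x := x)
    rw [h0]
    have h1 : X.basicOpen ρ = X.basicOpen f ⊓ X.basicOpen r' := Scheme.basicOpen_res _ _ _
    rw [h1]
    constructor
    · intro hx
      exact ⟨hD'img ▸ (X.basicOpen_le r' hx), hx⟩
    · exact fun hx => hx.2
  haveI : IsLocalization.Away f Γ(X, X.basicOpen f) := hV.isLocalization_basicOpen f
  obtain ⟨⟨c', ⟨_, n, rfl⟩⟩, hc'⟩ := IsLocalization.surj (Submonoid.powers f) ρ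
  have hc'' : ρ * Glue.res hDV (f ^ n) = Glue.res hDV c' := hc'
  have hρ : ∀ y ∈ X.basicOpen f, (y ∈ X.basicOpen ρ ↔ y ∈ X.basicOpen c') := by
    intro y hy
    have h1 : X.basicOpen (Glue.res hDV c') = X.basicOpen f ⊓ X.basicOpen c' :=
      Scheme.basicOpen_res _ _ _
    have h2 : X.basicOpen (ρ * Glue.res hDV (f ^ n)) =
        X.basicOpen ρ ⊓ X.basicOpen (Glue.res hDV (f ^ n)) := Scheme.basicOpen_mul _ _ _
    have h3 : X.basicOpen (Glue.res hDV (f ^ n)) = X.basicOpen f ⊓ X.basicOpen (f ^ n) :=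
      Scheme.basicOpen_res _ _ _
    have h4 : y ∈ X.basicOpen (f ^ n) := by
      rw [PicDim1.mem_basicOpen_iff hV _ y (hDV hy)]
      intro hmem
      exact (PicDim1.mem_basicOpen_iff hV f y (hDV hy)).mp hy
        ((hV.primeIdealOf ⟨y, hDV hy⟩).isPrime.mem_of_pow_mem n hmem)
    constructor
    · intro hyρ
      have : y ∈ X.basicOpen (ρ * Glue.res hDV (f ^ n)) := by
        rw [h2, h3]; exact ⟨hyρ, hy, h4⟩
      rw [hc'', h1] at this
      exact this.2
    · intro hyc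
      have : y ∈ X.basicOpen (Glue.res hDV c') := by rw [h1]; exact ⟨hy, hyc⟩
      rw [← hc'', h2] at this
      exact this.1
  -- the algebra step
  obtain ⟨h, hhm, M, hM⟩ := exists_mul_pow_mem_span' m (X.presheaf.stalk z) c' f hfm (by
    intro p hp hpm hcp
    by_contra hfp
    obtain ⟨hyV, hyq⟩ := Pole.primeIdealOf_fromSpec hV ⟨p, hp⟩
    have hyD : hV.fromSpec ⟨p, hp⟩ ∈ X.basicOpen f := by
      rw [PicDim1.mem_basicOpen_iff hV f _ hyV, hyq]; exact hfp
    have hxZ : (⟨hV.fromSpec ⟨p, hp⟩, hDU hyD⟩ : (U : Scheme.{u})) ∈ Z :=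
      ⟨⟨⟨p, hp⟩, hpm, rfl⟩, hyD⟩
    have h1 := (hmem _).mp (hZr hxZ)
    have h2 := (hρ _ hyD).mp h1
    rw [PicDim1.mem_basicOpen_iff hV c' _ hyV, hyq] at h2
    exact h2 hcp)
  refine ⟨h, (PicDim1.mem_basicOpen_iff hV h z hzV).mpr hhm, ?_⟩
  have hle : U.ι ⁻¹ᵁ X.basicOpen h ≤ (U : Scheme.{u}).basicOpen r := by
    intro x hx
    have hxh : x.1 ∈ X.basicOpen h := hx
    have hxV : x.1 ∈ V := X.basicOpen_le h hxh
    have hxD : x.1 ∈ X.basicOpen f := by rw [hf]; exact ⟨hxV, x.2⟩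
    rw [hmem, hρ _ hxD, PicDim1.mem_basicOpen_iff hV c' _ hxV]
    intro hc
    obtain ⟨a, ha⟩ := Ideal.mem_span_singleton'.mp hM
    have h3 : h * f ^ M ∈ (hV.primeIdealOf ⟨x.1, hxV⟩).asIdeal := by
      rw [← ha]; exact Ideal.mul_mem_left _ _ hc
    rcases (hV.primeIdealOf ⟨x.1, hxV⟩).isPrime.mem_or_mem h3 with h4 | h4
    · exact (PicDim1.mem_basicOpen_iff hV h _ hxV).mp hxh h4
    · exact (PicDim1.mem_basicOpen_iff hV f _ hxV).mp hxD
        ((hV.primeIdealOf ⟨x.1, hxV⟩).isPrime.mem_of_pow_mem M h4)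
  exact ⟨N.presheaf.map (homOfLE hle).op e, he.mono hle⟩

end Groth.Agent.H5.Ext
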