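import Mathlib
import Groth.Agent.Lib.Helper5.Glue.G
import Groth.Agent.Lib.Lead.QC.RestrictOpen

/-!
# Extending an invertible module from an open subscheme, given trivialisations near the boundary
-/

set_option autoImplicit false
universe u
open CategoryTheory CategoryTheory.Limits AlgebraicGeometry TopologicalSpace Opposite

namespace Groth.Agent.H5.Ext

open Groth.Agent.LD Groth.Agent.LD.QC Groth.Agent.H5.Glue

variable {X : Scheme.{u}} (U : X.Opens)

/-- a function on an open of the open subscheme `U`, viewed as a function on `X`. -/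
def toX {O : (U : Scheme.{u}).Opens} (x : Γ(U, O)) : Γ(X, U.ι ''ᵁ O) := x

lemma toX_one (O : (U : Scheme.{u}).Opens) : toX U (1 : Γ(U, O)) = 1 := rfl

lemma toX_mul {O : (U : Scheme.{u}).Opens} (x y : Γ(U, O)) :
    toX U (x * y) = toX U x * toX U y := rfl

lemma toX_res {O₁ O₂ : (U : Scheme.{u}).Opens} (h : O₂ ≤ O₁) (x : Γ(U, O₁)) :
    toX U (res h x) = res (U.ι.image_mono h) (toX U x) := rfl

section extend

variable {ι : Type u} (W : ι → X.Opens) (hWU : ∀ a b, a ≠ b → W a ⊓ W b ≤ U)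
  (η : ∀ a b : ι, Γ(U, U.ι ⁻¹ᵁ W a ⊓ U.ι ⁻¹ᵁ W b))

include hWU in
lemma le_image_of_ne {a b : ι} (h : a ≠ b) :
    W a ⊓ W b ≤ U.ι ''ᵁ (U.ι ⁻¹ᵁ W a ⊓ U.ι ⁻¹ᵁ W b) := by
  intro y hy
  exact ⟨⟨y, hWU a b h hy⟩, ⟨hy.1, hy.2⟩, rfl⟩

/-- the extended cocycle: `1` on the diagonal, the given cocycle off the diagonal. -/
noncomputable def τe (a b : ι) : Γ(X, W a ⊓ W b) := by
  classical
  exact if h : a = b then 1 else res (le_image_of_ne U W hWU h) (toX U (η a b))

lemma res_τe (hη1 : ∀ a, η a a = 1) (a b : ι) (T : X.Opens) (h1 : T ≤ W a ⊓ W b)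
    (h2 : T ≤ U.ι ''ᵁ (U.ι ⁻¹ᵁ W a ⊓ U.ι ⁻¹ᵁ W b)) :
    res h1 (τe U W hWU η a b) = res h2 (toX U (η a b)) := by
  classical
  by_cases h : a = b
  · subst h
    unfold τe
    rw [dif_pos rfl, hη1, toX_one, map_one, map_one]
  · unfold τe
    rw [dif_neg h, Glue.res_res]

theorem isCocycle_τe (hη : IsCocycle (fun a => U.ι ⁻¹ᵁ W a) η) (hη1 : ∀ a, η a a = 1) :
    IsCocycle W (τe U W hWU η) := by
  classical
  intro a b c
  by_cases habc : a = b ∧ a = c
  · obtain ⟨rfl, rfl⟩ := habc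
    have : τe U W hWU η a a = 1 := by unfold τe; rw [dif_pos rfl]
    simp only [this, map_one, mul_one]
  · set T := W a ⊓ W b ⊓ W c with hT
    have hTU : T ≤ U := by
      by_cases hab : a = b
      · have hac : a ≠ c := fun h => habc ⟨hab, h⟩
        exact (le_inf (inf_le_left.trans inf_le_left) inf_le_right).trans (hWU a c hac)
      · exact inf_le_left.trans (hWU a b hab)
    have hT' : T ≤ U.ι ''ᵁ (U.ι ⁻¹ᵁ W a ⊓ U.ι ⁻¹ᵁ W b ⊓ U.ι ⁻¹ᵁ W c) := by
      intro y hy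
      exact ⟨⟨y, hTU hy⟩, ⟨⟨hy.1.1, hy.1.2⟩, hy.2⟩, rfl⟩
    have key := congrArg (fun x => res hT' (toX U x)) (hη a b c)
    simp only [toX_mul, toX_res, map_mul, Glue.res_res] at key
    rw [res_τe U W hWU η hη1 a c T _ (hT'.trans (U.ι.image_mono
        (inf_le_inf_right _ inf_le_left))),
      res_τe U W hWU η hη1 a b T _ (hT'.trans (U.ι.image_mono inf_le_left)),
      res_τe U W hWU η hη1 b c T _ (hT'.trans (U.ι.image_mono
        (inf_le_inf_right _ inf_le_right)))]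
    exact key

end extend

lemma appIso_inv_eq_toX {O : (U : Scheme.{u}).Opens} (a : Γ(U, O)) :
    (U.ι.appIso O).inv.hom a = toX U a := by
  rw [Scheme.Opens.ι_appIso]
  rfl

lemma smul_restrict (M : X.Modules) (O : (U : Scheme.{u}).Opens) (a : Γ(U, O))
    (x : Γ(M, U.ι ''ᵁ O)) :
    (a • (show Γ(M.restrict U.ι, O) from x)) =
      (show Γ(M.restrict U.ι, O) from (toX U a • x)) := by
  rw [← appIso_inv_eq_toX]
  rfl

/-- **Extension of an invertible module**: if `N` on the open subscheme `U` is trivialised over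
`W a ∩ U` for a cover `W` of `X` whose members meet pairwise inside `U`, then `N` extends to an
invertible module on `X`. -/
theorem exists_extension (N : (U : Scheme.{u}).Modules) {ι : Type u} (W : ι → X.Opens)
    (hW : iSup W = ⊤) (hWU : ∀ a b, a ≠ b → W a ⊓ W b ≤ U)
    (b : ∀ a, Γ(N, U.ι ⁻¹ᵁ W a)) (hb : ∀ a, IsBasisOver N (U.ι ⁻¹ᵁ W a) (b a)) :
    ∃ L : X.Modules, PicF.IsInvertible L ∧ Nonempty (L.restrict U.ι ≅ N) := by
  classical
  have hηN := isCocycle_transition (U := fun a => U.ι ⁻¹ᵁ W a) hb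
  have hη1 : ∀ a, transition hb a a = 1 :=
    fun a => hηN.self_eq_one a (isUnit_transition hb a a)
  have hcoc := isCocycle_τe U W hWU (transition hb) hηN hη1
  have hτ1 : ∀ a, τe U W hWU (transition hb) a a = 1 := by
    intro a; unfold τe; rw [dif_pos rfl]
  have hunit : ∀ a, IsUnit (τe U W hWU (transition hb) a a) := by
    intro a; rw [hτ1]; exact isUnit_one
  have hL := isInvertible_glueMod hcoc hunit hW
  refine ⟨glueMod W (τe U W hWU (transition hb)), hL, ?_⟩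
  have hV : iSup (fun a => U.ι ⁻¹ᵁ W a) = ⊤ := by
    rw [eq_top_iff]
    intro x _
    have hx : (U.ι x) ∈ iSup W := by rw [hW]; trivial
    obtain ⟨a, ha⟩ := Opens.mem_iSup.mp hx
    exact Opens.mem_iSup.mpr ⟨a, ha⟩
  have hVa : ∀ a, U.ι ''ᵁ (U.ι ⁻¹ᵁ W a) ≤ W a := by
    rintro a _ ⟨y, hy, rfl⟩; exact hy
  let g : ∀ a, Γ((glueMod W (τe U W hWU (transition hb))).restrict U.ι, U.ι ⁻¹ᵁ W a) :=
    fun a => (show Γ(glueMod W (τe U W hWU (transition hb)), U.ι ''ᵁ (U.ι ⁻¹ᵁ W a)) from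
      mres _ (hVa a) (glueGen hcoc a))
  have hg : ∀ a, IsBasisOver ((glueMod W (τe U W hWU (transition hb))).restrict U.ι)
      (U.ι ⁻¹ᵁ W a) (g a) := fun a =>
    (isBasisOver_restrict_iff U.ι _ (U.ι ⁻¹ᵁ W a) _).mpr
      ((isBasisOver_glueGen hcoc hunit a).mono (hVa a))
  refine nonempty_iso_of_same_transition hV hg hb (transition hb) ?_ (transition_spec hb)
  intro a c
  have hT : U.ι ''ᵁ (U.ι ⁻¹ᵁ W a ⊓ U.ι ⁻¹ᵁ W c) ≤ W a ⊓ W c := by
    rintro _ ⟨y, hy, rfl⟩; exact ⟨hy.1, hy.2⟩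
  have h1 := glueGen_transition hcoc a c
  change mres _ _ (glueGen hcoc a) = _ • mres _ _ (glueGen hcoc c) at h1
  have h2 := congrArg (mres (glueMod W (τe U W hWU (transition hb))) hT) h1
  rw [mres_smul, mres_mres, mres_mres, res_τe U W hWU (transition hb) hη1 a c _ hT le_rfl,
    Glue.res_self] at h2
  have e1 : mres ((glueMod W (τe U W hWU (transition hb))).restrict U.ι)
      (inf_le_left : U.ι ⁻¹ᵁ W a ⊓ U.ι ⁻¹ᵁ W c ≤ U.ι ⁻¹ᵁ W a) (g a) =
      (show Γ((glueMod W (τe U W hWU (transition hb))).restrict U.ι,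
        U.ι ⁻¹ᵁ W a ⊓ U.ι ⁻¹ᵁ W c) from
        mres (glueMod W (τe U W hWU (transition hb))) (hT.trans inf_le_left)
          (glueGen hcoc a)) := by
    change mres (glueMod W (τe U W hWU (transition hb))) (U.ι.image_mono inf_le_left)
      (mres _ (hVa a) (glueGen hcoc a)) = _
    rw [mres_mres]
  have e2 : mres ((glueMod W (τe U W hWU (transition hb))).restrict U.ι)
      (inf_le_right : U.ι ⁻¹ᵁ W a ⊓ U.ι ⁻¹ᵁ W c ≤ U.ι ⁻¹ᵁ W c) (g c) =
      (show Γ((glueMod W (τe U W hWU (transition hb))).restrict U.ι,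
        U.ι ⁻¹ᵁ W a ⊓ U.ι ⁻¹ᵁ W c) from
        mres (glueMod W (τe U W hWU (transition hb))) (hT.trans inf_le_right)
          (glueGen hcoc c)) := by
    change mres (glueMod W (τe U W hWU (transition hb))) (U.ι.image_mono inf_le_right)
      (mres _ (hVa c) (glueGen hcoc c)) = _
    rw [mres_mres]
  rw [e1, e2, smul_restrict]
  exact h2

end Groth.Agent.H5.Ext
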