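import Mathlib
import Groth.Agent.Lib.Helper5.Ext.C
import Groth.Agent.Lib.Helper5.Ext.D
import Groth.Agent.Lib.Helper5.Ext.E

/-!
# Extending invertible modules across a discrete set of points with Noetherian local rings of
dimension `≤ 1`
-/

set_option autoImplicit false
universe u
open CategoryTheory CategoryTheory.Limits AlgebraicGeometry TopologicalSpace Opposite

namespace Groth.Agent.H5.Ext

open Groth.Agent.LD Groth.Agent.LD.QC Groth.Agent.H5.Glue

variable {X : Scheme.{u}}

/-- **Part (2)**: `Pic(X) → Pic(U)` is surjective for a retrocompact open `U` whose complement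
is discrete with Noetherian local rings of dimension `≤ 1`. -/
theorem exists_extension_of_discrete (U : X.Opens) [QuasiCompact U.ι]
    (hdisc : DiscreteTopology ↥((U : Set X)ᶜ))
    (hloc : ∀ x : X, x ∉ U → IsNoetherianRing (X.presheaf.stalk x) ∧
      ringKrullDim (X.presheaf.stalk x) ≤ 1)
    (N : (U : Scheme.{u}).Modules) (hN : PicF.IsInvertible N) :
    ∃ L : X.Modules, PicF.IsInvertible L ∧ Nonempty (L.restrict U.ι ≅ N) := by
  classical
  have hdata : ∀ x : X, ∃ (W : X.Opens) (b : Γ(N, U.ι ⁻¹ᵁ W)), x ∈ W ∧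
      IsBasisOver N (U.ι ⁻¹ᵁ W) b ∧ ∀ y ∈ W, y ∉ U → y = x := by
    intro x
    by_cases hx : x ∈ U
    · obtain ⟨O', e, hxO', he⟩ := (isInvertible_iff_exists_isBasisOver N).mp hN ⟨x, hx⟩
      have hpre : U.ι ⁻¹ᵁ (U.ι ''ᵁ O') = O' := U.ι.preimage_image_eq O'
      refine ⟨U.ι ''ᵁ O', N.presheaf.map (homOfLE (le_of_eq hpre)).op e, ⟨⟨x, hx⟩, hxO', rfl⟩,
        he.mono (le_of_eq hpre), ?_⟩
      rintro _ ⟨y, -, rfl⟩ hy
      exact absurd y.2 hy
    · obtain ⟨hcl, hiso⟩ := isClosed_and_isolated U hdisc x hx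
      obtain ⟨V, hV, hxV, f, hf, hVx⟩ := exists_local_equation U x hx hcl hiso (hloc x hx).1
        (hloc x hx).2
      obtain ⟨h, hxh, b, hb⟩ := exists_local_basis U N hN x hx hV hxV f hf (hloc x hx).1
        (hloc x hx).2
      exact ⟨X.basicOpen h, b, hxh, hb, fun y hy hyU => hVx y (X.basicOpen_le h hy) hyU⟩
  choose W b hxW hb hW using hdata
  have hWtop : iSup W = ⊤ := by
    rw [eq_top_iff]
    intro x _
    exact Opens.mem_iSup.mpr ⟨x, hxW x⟩
  have hWU : ∀ i j, i ≠ j → W i ⊓ W j ≤ U := by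
    intro i j hij y hy
    by_contra hyU
    exact hij ((hW i y hy.1 hyU).symm.trans (hW j y hy.2 hyU))
  exact exists_extension U N W hWtop hWU b hb

end Groth.Agent.H5.Ext
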